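import Mathlib

/-!
# S4908: a Frobenius group `K : Q` acting on a finite abelian group of order prime to `|K|` (helper827)

`exists_fix`: if `K` moves an element of order prime to `|K|` then `Q` fixes a nontrivial element. The kernel `K` is arbitrary.
`exists_fix_pgroup`: a `p`-group acting on a nontrivial abelian group of order divisible by `p` fixes a nontrivial element.
-/

set_option autoImplicit false

namespace Cfsg.Agent.H827.S8

universe u v

variable {X : Type u} [Group X] {L : Type v} [CommGroup L]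

/-- the norm of a finite subgroup is fixed by the subgroup -/
theorem norm_fixed (ρ : X →* MulAut L) (Q : Subgroup X) [Fintype Q] (v : L) (h : X) (hh : h ∈ Q) :
    ρ h (∏ g : Q, ρ (g : X) v) = ∏ g : Q, ρ (g : X) v := by
  rw [map_prod]
  have h1 : ∀ g : Q, ρ h (ρ (g : X) v) = ρ ((⟨h, hh⟩ * g : Q) : X) v := fun g => by
    rw [← MulAut.mul_apply, ← map_mul]; rfl
  rw [Finset.prod_congr rfl fun g _ => h1 g]
  exact Equiv.prod_comp (Equiv.mulLeft (⟨h, hh⟩ : Q)) fun g : Q => ρ (g : X) v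

/-- **Frobenius groups `K : Q`, arbitrary kernel.** -/
theorem exists_fix [Finite L] (ρ : X →* MulAut L) (K Q : Subgroup X) [Finite K] [Finite Q]
    (hQK : ∀ g ∈ Q, ∀ u ∈ K, g * u * g⁻¹ ∈ K) (hfr : ∀ u ∈ K, ∀ g ∈ Q, g * u = u * g → u = 1 ∨ g = 1)
    (hne : ∃ u ∈ K, ∃ x : L, (Nat.card K).Coprime (orderOf x) ∧ ρ u x ≠ x) :
    ∃ x : L, x ≠ 1 ∧ ∀ g ∈ Q, ρ g x = x := by
  classical
  by_contra hno
  push Not at hno
  have hQ : ∀ x : L, (∀ g ∈ Q, ρ g x = x) → x = 1 := fun x hx => by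
    by_contra h
    obtain ⟨g, hg, hgx⟩ := hno x h
    exact hgx (hx g hg)
  have := Fintype.ofFinite K
  have := Fintype.ofFinite Q
  -- the norm of a conjugate of `Q` is trivial
  have h1 : ∀ (u : K) (v : L), ∏ g : Q, ρ ((u : X) * g * (u : X)⁻¹) v = 1 := by
    intro u v
    have h2 : ∀ g : Q, ρ ((u : X) * g * (u : X)⁻¹) v = ρ (u : X) (ρ (g : X) (ρ (u : X)⁻¹ v)) := fun g => by
      rw [map_mul, map_mul, MulAut.mul_apply, MulAut.mul_apply, map_inv]
    rw [Finset.prod_congr rfl fun g _ => h2 g, ← map_prod,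
      hQ _ fun h hh => norm_fixed ρ Q (ρ (u : X)⁻¹ v) h hh, map_one]
  -- for `g ≠ 1` the elements `u g u⁻¹` are the elements of `K g`
  have h3 : ∀ (g : Q), g ≠ 1 → ∀ v : L, ∏ u : K, ρ ((u : X) * g * (u : X)⁻¹) v = ∏ u : K, ρ (u : X) (ρ (g : X) v) := by
    intro g hg v
    let f : K → K := fun u => ⟨(u : X) * (g * (u : X)⁻¹ * (g : X)⁻¹), K.mul_mem u.2 (hQK g g.2 _ (K.inv_mem u.2))⟩
    have hf : Function.Injective f := by
      intro a b hab
      have h4 : (a : X) * (g * (a : X)⁻¹ * (g : X)⁻¹) = (b : X) * (g * (b : X)⁻¹ * (g : X)⁻¹) := congrArg Subtype.val hab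
      have h5 : (g : X) * ((b : X)⁻¹ * a) = ((b : X)⁻¹ * a) * g := by
        have h6 : ((b : X)⁻¹ * a) * (g : X) * ((a : X)⁻¹) = g * (b : X)⁻¹ := by
          calc ((b : X)⁻¹ * a) * (g : X) * ((a : X)⁻¹) = (b : X)⁻¹ * (a * (g * (a : X)⁻¹ * (g : X)⁻¹)) * g := by group
            _ = (b : X)⁻¹ * ((b : X) * (g * (b : X)⁻¹ * (g : X)⁻¹)) * g := by rw [h4]
            _ = g * (b : X)⁻¹ := by group
        calc (g : X) * ((b : X)⁻¹ * a) = (g * (b : X)⁻¹) * a := by group
          _ = ((b : X)⁻¹ * a) * (g : X) * ((a : X)⁻¹) * a := by rw [h6]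
          _ = ((b : X)⁻¹ * a) * g := by group
      rcases hfr _ (K.mul_mem (K.inv_mem b.2) a.2) g g.2 h5 with h6 | h6
      · exact Subtype.ext (inv_mul_eq_one.1 h6).symm
      · exact absurd (Subtype.ext h6) hg
    have hb : Function.Bijective f := Finite.injective_iff_bijective.1 hf
    have h7 : ∀ u : K, ρ ((u : X) * g * (u : X)⁻¹) v = ρ ((f u : K) : X) (ρ (g : X) v) := fun u => by
      rw [← MulAut.mul_apply, ← map_mul]
      congr 2
      change _ = (u : X) * (g * (u : X)⁻¹ * (g : X)⁻¹) * g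
      group
    rw [Finset.prod_congr rfl fun u _ => h7 u]
    exact Function.Bijective.prod_comp hb fun u : K => ρ (u : X) (ρ (g : X) v)
  -- `v ^ |K|` is fixed by `K`
  have h8 : ∀ v : L, ∀ k ∈ K, ρ k (v ^ Nat.card K) = v ^ Nat.card K := by
    intro v k hk
    have h9 : ∏ u : K, ∏ g : Q, ρ ((u : X) * g * (u : X)⁻¹) v = 1 := Finset.prod_eq_one fun u _ => h1 u v
    rw [Finset.prod_comm, ← Finset.mul_prod_erase _ _ (Finset.mem_univ (1 : Q))] at h9
    have h10 : ∏ u : K, ρ ((u : X) * ((1 : Q) : X) * (u : X)⁻¹) v = v ^ Nat.card K := by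
      rw [Finset.prod_congr rfl (g := fun _ => v) fun u _ => by simp, Finset.prod_const, Finset.card_univ,
        Nat.card_eq_fintype_card]
    rw [h10] at h9
    have h11 : ∏ g ∈ Finset.univ.erase (1 : Q), ∏ u : K, ρ ((u : X) * g * (u : X)⁻¹) v =
        ∏ g ∈ Finset.univ.erase (1 : Q), ∏ u : K, ρ (u : X) (ρ (g : X) v) :=
      Finset.prod_congr rfl fun g hg => h3 g (Finset.ne_of_mem_erase hg) v
    rw [h11] at h9
    have h12 : v ^ Nat.card K = (∏ g ∈ Finset.univ.erase (1 : Q), ∏ u : K, ρ (u : X) (ρ (g : X) v))⁻¹ :=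
      eq_inv_of_mul_eq_one_left h9
    rw [h12, map_inv, map_prod]
    congr 1
    exact Finset.prod_congr rfl fun g _ => norm_fixed ρ K _ k hk
  obtain ⟨k, hk, x, hcop, hx⟩ := hne
  refine hx ?_
  obtain ⟨m, hm⟩ := exists_pow_eq_self_of_coprime (x := x) (n := Nat.card K) hcop
  rw [← hm, map_pow, h8 x k hk]

/-- a `p`-group acting on a finite abelian group of order divisible by `p` -/
theorem exists_fix_pgroup [Finite L] (ρ : X →* MulAut L) {p : ℕ} [Fact p.Prime] (P : Subgroup X) [Finite P]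
    (hP : IsPGroup p P) (hL : p ∣ Nat.card L) : ∃ x : L, x ≠ 1 ∧ ∀ g ∈ P, ρ g x = x := by
  classical
  let _ : MulAction P L := MulAction.compHom L (ρ.comp P.subtype)
  have h1 : (1 : L) ∈ MulAction.fixedPoints P L := fun g => map_one (ρ (g : X))
  obtain ⟨x, hx, hx1⟩ := hP.exists_fixed_point_of_prime_dvd_card_of_fixed_point L hL h1
  exact ⟨x, fun h => hx1 h.symm, fun g hg => hx ⟨g, hg⟩⟩

end Cfsg.Agent.H827.S8
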