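import Mathlib

/-!
# S4908: the commutator space of an automorphism of prime order in a Frobenius group (helper827)

`cyc`: `Λ` elementary abelian of exponent `r`, `a` of prime order `p ≠ r`, `b a b⁻¹ = a ^ k`, `b ^ q = 1` with `k` of order `≥ q`
modulo `p`: then `|Λ : C_Λ(a)| ≥ r ^ q`.
-/

set_option autoImplicit false
set_option linter.unusedSectionVars false

namespace Cfsg.Agent.H827.S8

universe u v

section fixed

variable {X : Type u} [Group X] {L : Type v} [CommGroup L]

theorem norm_fixed' (ρ : X →* MulAut L) (Q : Subgroup X) [Fintype Q] (v : L) (h : X) (hh : h ∈ Q) :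
    ρ h (∏ g : Q, ρ (g : X) v) = ∏ g : Q, ρ (g : X) v := by
  rw [map_prod]
  have h1 : ∀ g : Q, ρ h (ρ (g : X) v) = ρ ((⟨h, hh⟩ * g : Q) : X) v := fun g => by
    rw [← MulAut.mul_apply, ← map_mul]; rfl
  rw [Finset.prod_congr rfl fun g _ => h1 g]
  exact Equiv.prod_comp (Equiv.mulLeft (⟨h, hh⟩ : Q)) fun g : Q => ρ (g : X) v

/-- **Frobenius groups `K : Q`, arbitrary kernel, inside an invariant subgroup.** -/
theorem exists_fix_in (ρ : X →* MulAut L) (K Q : Subgroup X) [Finite K] [Finite Q]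
    (hQK : ∀ g ∈ Q, ∀ u ∈ K, g * u * g⁻¹ ∈ K) (hfr : ∀ u ∈ K, ∀ g ∈ Q, g * u = u * g → u = 1 ∨ g = 1)
    (S : Subgroup L) (hSK : ∀ u ∈ K, ∀ x ∈ S, ρ u x ∈ S) (hSQ : ∀ g ∈ Q, ∀ x ∈ S, ρ g x ∈ S)
    (hne : ∃ u ∈ K, ∃ x ∈ S, (Nat.card K).Coprime (orderOf x) ∧ ρ u x ≠ x) :
    ∃ x ∈ S, x ≠ 1 ∧ ∀ g ∈ Q, ρ g x = x := by
  classical
  by_contra hno
  push Not at hno
  have hQ : ∀ x ∈ S, (∀ g ∈ Q, ρ g x = x) → x = 1 := fun x hxS hx => by
    by_contra h
    obtain ⟨g, hg, hgx⟩ := hno x hxS h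
    exact hgx (hx g hg)
  have := Fintype.ofFinite K
  have := Fintype.ofFinite Q
  have h1 : ∀ (u : K), ∀ v ∈ S, ∏ g : Q, ρ ((u : X) * g * (u : X)⁻¹) v = 1 := by
    intro u v hv
    have h2 : ∀ g : Q, ρ ((u : X) * g * (u : X)⁻¹) v = ρ (u : X) (ρ (g : X) (ρ (u : X)⁻¹ v)) := fun g => by
      rw [map_mul, map_mul, MulAut.mul_apply, MulAut.mul_apply, map_inv]
    have h3 : ρ (u : X)⁻¹ v ∈ S := hSK _ (K.inv_mem u.2) v hv
    have h4 : ∏ g : Q, ρ (g : X) (ρ (u : X)⁻¹ v) = 1 :=
      hQ _ (S.prod_mem fun (g : Q) _ => hSQ (g : X) g.2 _ h3) fun h hh => norm_fixed' ρ Q (ρ (u : X)⁻¹ v) h hh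
    rw [Finset.prod_congr rfl fun g _ => h2 g, ← map_prod, h4, map_one]
  have h3 : ∀ (g : Q), g ≠ 1 → ∀ v : L, ∏ u : K, ρ ((u : X) * g * (u : X)⁻¹) v = ∏ u : K, ρ (u : X) (ρ (g : X) v) := by
    intro g hg v
    let f : K → K := fun u => ⟨(u : X) * (g * (u : X)⁻¹ * (g : X)⁻¹), K.mul_mem u.2 (hQK g g.2 _ (K.inv_mem u.2))⟩
    have hf : Function.Injective f := by
      intro a b hab
      have h4 : (a : X) * (g * (a : X)⁻¹ * (g : X)⁻¹) = (b : X) * (g * (b : X)⁻¹ * (g : X)⁻¹) := congrArg Subtype.val hab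
      have h5 : (g : X) * ((b : X)⁻¹ * a) = ((b : X)⁻¹ * a) * g := by
        have h6 : ((b : X)⁻¹ * a) * (g : X) * ((a : X)⁻¹) = g * (b : X)⁻¹ := by
          calc ((b : X)⁻¹ * a) * (g : X) * ((a : X)⁻¹) = (b : X)⁻¹ * (a * (g * (a : X)⁻¹ * (g : X)⁻¹)) * g := by group
            _ = (b : X)⁻¹ * ((b : X) * (g * (b : X)⁻¹ * (g : X)⁻¹)) * g := by rw [h4]
            _ = g * (b : X)⁻¹ := by group
        calc (g : X) * ((b : X)⁻¹ * a) = (g * (b : X)⁻¹) * a := by group
          _ = ((b : X)⁻¹ * a) * (g : X) * ((a : X)⁻¹) * a := by rw [h6]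
          _ = ((b : X)⁻¹ * a) * g := by group
      rcases hfr _ (K.mul_mem (K.inv_mem b.2) a.2) g g.2 h5 with h6 | h6
      · exact Subtype.ext (inv_mul_eq_one.1 h6).symm
      · exact absurd (Subtype.ext h6) hg
    have hb : Function.Bijective f := Finite.injective_iff_bijective.1 hf
    have h7 : ∀ u : K, ρ ((u : X) * g * (u : X)⁻¹) v = ρ ((f u : K) : X) (ρ (g : X) v) := fun u => by
      rw [← MulAut.mul_apply, ← map_mul]
      congr 2
      change _ = (u : X) * (g * (u : X)⁻¹ * (g : X)⁻¹) * g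
      group
    rw [Finset.prod_congr rfl fun u _ => h7 u]
    exact Function.Bijective.prod_comp hb fun u : K => ρ (u : X) (ρ (g : X) v)
  have h8 : ∀ v ∈ S, ∀ k ∈ K, ρ k (v ^ Nat.card K) = v ^ Nat.card K := by
    intro v hv k hk
    have h9 : ∏ u : K, ∏ g : Q, ρ ((u : X) * g * (u : X)⁻¹) v = 1 := Finset.prod_eq_one fun u _ => h1 u v hv
    rw [Finset.prod_comm, ← Finset.mul_prod_erase _ _ (Finset.mem_univ (1 : Q))] at h9
    have h10 : ∏ u : K, ρ ((u : X) * ((1 : Q) : X) * (u : X)⁻¹) v = v ^ Nat.card K := by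
      rw [Finset.prod_congr rfl (g := fun _ => v) fun u _ => by simp, Finset.prod_const, Finset.card_univ,
        Nat.card_eq_fintype_card]
    rw [h10] at h9
    have h11 : ∏ g ∈ Finset.univ.erase (1 : Q), ∏ u : K, ρ ((u : X) * g * (u : X)⁻¹) v =
        ∏ g ∈ Finset.univ.erase (1 : Q), ∏ u : K, ρ (u : X) (ρ (g : X) v) :=
      Finset.prod_congr rfl fun g hg => h3 g (Finset.ne_of_mem_erase hg) v
    rw [h11] at h9
    have h12 : v ^ Nat.card K = (∏ g ∈ Finset.univ.erase (1 : Q), ∏ u : K, ρ (u : X) (ρ (g : X) v))⁻¹ :=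
      eq_inv_of_mul_eq_one_left h9
    rw [h12, map_inv, map_prod]
    congr 1
    exact Finset.prod_congr rfl fun g _ => norm_fixed' ρ K _ k hk
  obtain ⟨k, hk, x, hxS, hcop, hx⟩ := hne
  refine hx ?_
  obtain ⟨m, hm⟩ := exists_pow_eq_self_of_coprime (x := x) (n := Nat.card K) hcop
  rw [← hm, map_pow, h8 x hxS k hk]

end fixed

section linear

open Polynomial

variable {r : ℕ} [Fact r.Prime] {V : Type v} [AddCommGroup V] [Module (ZMod r) V]

theorem aeval_comm {A B : Module.End (ZMod r) V} {k : ℕ} (h : B * A = A ^ k * B) (f : (ZMod r)[X]) :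
    B * aeval A f = aeval (A ^ k) f * B := by
  induction f using Polynomial.induction_on' with
  | add p q hp hq => rw [map_add, map_add, mul_add, add_mul, hp, hq]
  | monomial n c =>
    have h1 : ∀ n : ℕ, B * A ^ n = (A ^ k) ^ n * B := by
      intro n
      induction n with
      | zero => simp
      | succ n ih => rw [pow_succ, ← mul_assoc, ih, mul_assoc, h, ← mul_assoc, ← pow_succ]
    rw [aeval_monomial, aeval_monomial, ← mul_assoc, ← Algebra.commutes, mul_assoc, h1, mul_assoc]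

/-- the annihilator of a vector -/
def ann (A : Module.End (ZMod r) V) (x : V) : Ideal (ZMod r)[X] where
  carrier := {f | aeval A f x = 0}
  add_mem' := fun {a b} ha hb => by
    change aeval A (a + b) x = 0
    rw [map_add, LinearMap.add_apply, show aeval A a x = 0 from ha, show aeval A b x = 0 from hb, add_zero]
  zero_mem' := by change aeval A 0 x = 0; rw [map_zero, LinearMap.zero_apply]
  smul_mem' := fun c f hf => by
    change aeval A (c * f) x = 0
    rw [map_mul, Module.End.mul_apply, show aeval A f x = 0 from hf, map_zero]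

theorem mem_ann {A : Module.End (ZMod r) V} {x : V} {f : (ZMod r)[X]} : f ∈ ann A x ↔ aeval A f x = 0 := Iff.rfl

/-- `q` independent vectors `A ^ i x` -/
theorem pow_le_card {p q k : ℕ} (hp : p.Prime) (hrp : r ≠ p) {A B : Module.End (ZMod r) V} {x : V}
    (hx : x ≠ 0) (hBx : B x = x) (hBA : B * A = A ^ k * B) (hN : (∑ i ∈ Finset.range p, A ^ i) x = 0)
    (hkp : k.Coprime p) (hk : ∀ i, 0 < i → i < q → ¬ k ^ i ≡ 1 [MOD p]) (W : Submodule (ZMod r) V) [Finite W]
    (hxW : ∀ i : ℕ, (A ^ i) x ∈ W) : r ^ q ≤ Nat.card W := by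
  classical
  have hJ : ann A x ≠ ⊤ := by
    intro h
    have h1 : (1 : (ZMod r)[X]) ∈ ann A x := h ▸ Submodule.mem_top
    rw [mem_ann, map_one] at h1
    exact hx h1
  obtain ⟨M, hM, hJM⟩ := Ideal.exists_le_maximal _ hJ
  let F := (ZMod r)[X] ⧸ M
  let _ : Field F := Ideal.Quotient.field M
  let ζ : F := Ideal.Quotient.mk M X
  have hev : ∀ f : (ZMod r)[X], aeval ζ f = Ideal.Quotient.mk M f := by
    intro f
    have h1 : (aeval ζ : (ZMod r)[X] →ₐ[ZMod r] F) = Ideal.Quotient.mkₐ (ZMod r) M := by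
      apply Polynomial.algHom_ext
      rw [aeval_X]
      rfl
    rw [h1]
    rfl
  have hroot : ∀ f ∈ ann A x, aeval ζ f = 0 := fun f hf => by
    rw [hev]
    exact Ideal.Quotient.eq_zero_iff_mem.2 (hJM hf)
  have hexp : ∀ f ∈ ann A x, expand (ZMod r) k f ∈ ann A x := by
    intro f hf
    rw [mem_ann] at hf ⊢
    rw [expand_eq_comp_X_pow, aeval_comp, map_pow, aeval_X]
    have h1 := congrArg (fun T : Module.End (ZMod r) V => T x) (aeval_comm hBA f)
    simp only [Module.End.mul_apply] at h1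
    rw [hf, map_zero, hBx] at h1
    exact h1.symm
  have hroot' : ∀ (i : ℕ), ∀ f ∈ ann A x, aeval (ζ ^ k ^ i) f = 0 := by
    intro i
    induction i with
    | zero => intro f hf; rw [pow_zero, pow_one]; exact hroot f hf
    | succ i ih =>
      intro f hf
      have h1 := ih _ (hexp f hf)
      rw [expand_aeval, ← pow_mul, ← pow_succ] at h1
      exact h1
  -- `ζ` is a primitive `p`-th root of unity
  have hΦ : (∑ i ∈ Finset.range p, (X : (ZMod r)[X]) ^ i) ∈ ann A x := by
    rw [mem_ann, map_sum]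
    simp only [map_pow, aeval_X]
    exact hN
  have hΦζ : ∑ i ∈ Finset.range p, ζ ^ i = 0 := by
    have h1 := hroot _ hΦ
    rw [map_sum] at h1
    simpa only [map_pow, aeval_X] using h1
  have hζp : ζ ^ p = 1 := by
    have h1 := geom_sum_mul ζ p
    rw [hΦζ, zero_mul] at h1
    exact (sub_eq_zero.1 h1.symm)
  have hchar : CharP F r := charP_of_injective_algebraMap (algebraMap (ZMod r) F).injective r
  have hζ1 : ζ ≠ 1 := by
    intro h1
    rw [h1] at hΦζ
    simp only [one_pow, Finset.sum_const, Finset.card_range, nsmul_eq_mul, mul_one] at hΦζ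
    have h2 : r ∣ p := (CharP.cast_eq_zero_iff F r p).1 hΦζ
    exact hrp ((Nat.prime_dvd_prime_iff_eq Fact.out hp).1 h2)
  have hord : orderOf ζ = p := by
    have : Fact p.Prime := ⟨hp⟩
    exact orderOf_eq_prime hζp hζ1
  have hζ0 : ζ ≠ 0 := by
    intro h1
    rw [h1, zero_pow hp.ne_zero] at hζp
    exact zero_ne_one hζp
  have hinj : Function.Injective fun i : Fin q => ζ ^ k ^ (i : ℕ) := by
    have key : ∀ i j : ℕ, i < j → j < q → ζ ^ k ^ i ≠ ζ ^ k ^ j := by
      intro i j hij hj h1'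
      have hu : orderOf (Units.mk0 ζ hζ0) = p := by rw [← orderOf_units, Units.val_mk0, hord]
      have h1 : (Units.mk0 ζ hζ0) ^ k ^ i = (Units.mk0 ζ hζ0) ^ k ^ j := Units.ext h1'
      rw [pow_eq_pow_iff_modEq, hu] at h1
      obtain ⟨t, rfl⟩ := Nat.exists_eq_add_of_lt hij
      have h2 : k ^ i * 1 ≡ k ^ i * k ^ (t + 1) [MOD p] := by
        rw [mul_one, ← pow_add, ← add_assoc]; exact h1
      have h3 := Nat.ModEq.cancel_left_of_coprime (show Nat.gcd p (k ^ i) = 1 from (Nat.Coprime.pow_left i hkp).symm) h2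
      exact hk (t + 1) (Nat.succ_pos t) (by omega) h3.symm
    intro i j hij
    rcases lt_trichotomy (i : ℕ) (j : ℕ) with h | h | h
    · exact absurd hij (key _ _ h j.2)
    · exact Fin.ext h
    · exact absurd hij.symm (key _ _ h i.2)
  -- the injection
  let φ : (Fin q → ZMod r) → W := fun c => ⟨∑ i, c i • (A ^ (i : ℕ)) x, W.sum_mem fun i _ => W.smul_mem _ (hxW i)⟩
  have hφ : Function.Injective φ := by
    intro c d hcd
    have h1 : ∑ i, c i • (A ^ (i : ℕ)) x = ∑ i, d i • (A ^ (i : ℕ)) x := congrArg Subtype.val hcd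
    let f : (ZMod r)[X] := ∑ i : Fin q, C (c i - d i) * X ^ (i : ℕ)
    have hf : f ∈ ann A x := by
      rw [mem_ann, map_sum, LinearMap.sum_apply]
      have h2 : ∀ i : Fin q, (aeval A (C (c i - d i) * X ^ (i : ℕ))) x = c i • (A ^ (i : ℕ)) x - d i • (A ^ (i : ℕ)) x := by
        intro i
        rw [map_mul, aeval_C, map_pow, aeval_X, Module.End.mul_apply, Module.algebraMap_end_apply, sub_smul]
      rw [Finset.sum_congr rfl fun i _ => h2 i, Finset.sum_sub_distrib, h1, sub_self]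
    have hdeg : ∀ g : Fin q → ZMod r, (∑ i : Fin q, C (g i) * X ^ (i : ℕ) : (ZMod r)[X]).degree < q := by
      intro g
      refine (degree_sum_le _ _).trans_lt ((Finset.sup_lt_iff (WithBot.bot_lt_coe q)).2 fun i _ => ?_)
      exact (degree_C_mul_X_pow_le _ _).trans_lt (WithBot.coe_lt_coe.2 i.2)
    have hf0 : f.map (algebraMap (ZMod r) F) = 0 := by
      rcases Nat.eq_zero_or_pos q with hq0 | hq0
      · subst hq0
        change (∑ i : Fin 0, _ : (ZMod r)[X]).map _ = 0
        rw [Finset.univ_eq_empty, Finset.sum_empty, Polynomial.map_zero]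
      by_contra hne
      refine hne (Polynomial.eq_zero_of_natDegree_lt_card_of_eval_eq_zero _ hinj (fun i => ?_) ?_)
      · rw [eval_map_algebraMap]
        exact hroot' i f hf
      · rw [Fintype.card_fin]
        have h3 : (f.map (algebraMap (ZMod r) F)).degree < q := by
          rw [degree_map]
          exact hdeg _
        exact (natDegree_lt_iff_degree_lt hne).2 h3
    have hf1 : f = 0 := (Polynomial.map_eq_zero (algebraMap (ZMod r) F)).1 hf0
    funext i
    have h4 : f.coeff (i : ℕ) = c i - d i := by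
      rw [finsetSum_coeff, Finset.sum_eq_single i]
      · rw [coeff_C_mul_X_pow, if_pos rfl]
      · intro j _ hj
        rw [coeff_C_mul_X_pow, if_neg fun h => hj (Fin.ext h.symm)]
      · intro h; exact absurd (Finset.mem_univ i) h
    rw [hf1, coeff_zero] at h4
    exact (sub_eq_zero.1 h4.symm)
  have h5 := Nat.card_le_card_of_injective φ hφ
  rw [Nat.card_fun, Nat.card_eq_fintype_card, Nat.card_eq_fintype_card, Fintype.card_fin, ZMod.card] at h5
  exact h5

theorem zlin_pow (a : V →+ V) (i : ℕ) (y : V) :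
    ((AddMonoidHom.toZModLinearMap r a : V →ₗ[ZMod r] V) ^ i) y = a^[i] y := by
  rw [Module.End.pow_apply]
  rfl

/-- the same for additive maps -/
theorem pow_le_card_add {p q k : ℕ} (hp : p.Prime) (hrp : r ≠ p) (a b : V →+ V)
    {x : V} (hx : x ≠ 0) (hbx : b x = x) (hba : ∀ y, b (a y) = a^[k] (b y))
    (hN : ∑ i ∈ Finset.range p, a^[i] x = 0) (hkp : k.Coprime p) (hk : ∀ i, 0 < i → i < q → ¬ k ^ i ≡ 1 [MOD p])
    (W : AddSubgroup V) [hW : Finite W] (hxW : ∀ i : ℕ, a^[i] x ∈ W) : r ^ q ≤ Nat.card W := by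
  have hfin : Finite (AddSubgroup.toZModSubmodule r W) := hW
  exact pow_le_card (q := q) hp hrp (A := AddMonoidHom.toZModLinearMap r a) (B := AddMonoidHom.toZModLinearMap r b)
    (x := x) (k := k) hx hbx
    (by
      refine LinearMap.ext fun y => ?_
      rw [Module.End.mul_apply, Module.End.mul_apply, zlin_pow]
      exact hba y)
    (by
      rw [LinearMap.sum_apply, Finset.sum_congr rfl fun i _ => zlin_pow a i x]
      exact hN)
    hkp hk (AddSubgroup.toZModSubmodule r W) (fun i => by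
      rw [zlin_pow]
      exact hxW i)

end linear

section main

variable {Λ : Type v} [CommGroup Λ]

theorem pow_div_mem (a : MulAut Λ) (W : Subgroup Λ) (hW : ∀ x : Λ, a x / x ∈ W) (k : ℕ) (x : Λ) : (a ^ k) x / x ∈ W := by
  induction k with
  | zero => rw [pow_zero, MulAut.one_apply, div_self']; exact W.one_mem
  | succ k ih =>
    have h1 : (a ^ (k + 1)) x / x = (a ((a ^ k) x) / (a ^ k) x) * ((a ^ k) x / x) := by
      rw [pow_succ', MulAut.mul_apply, div_mul_div_cancel]
    rw [h1]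
    exact W.mul_mem (hW _) ih

/-- **the commutator space of `a`** -/
theorem cyc [Finite Λ] {r p q k : ℕ} (hr : r.Prime) (hp : p.Prime) (hrp : r ≠ p) (hexp : ∀ x : Λ, x ^ r = 1)
    (a b : MulAut Λ) (ha : a ^ p = 1) (ha1 : a ≠ 1) (hq : 0 < q) (hb : b ^ q = 1) (hab : b * a * b⁻¹ = a ^ k)
    (hk : ∀ i, 0 < i → i < q → ¬ k ^ i ≡ 1 [MOD p]) : r ^ q * Nat.card {x : Λ // a x = x} ≤ Nat.card Λ := by
  classical
  have : Fact r.Prime := ⟨hr⟩
  have : Fact p.Prime := ⟨hp⟩
  have hao : orderOf a = p := orderOf_eq_prime ha ha1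
  -- the homomorphism `x ↦ a x / x`
  let φ : Λ →* Λ :=
    { toFun := fun x => a x / x
      map_one' := by rw [map_one, div_one]
      map_mul' := fun x y => by rw [map_mul, mul_div_mul_comm] }
  have hφ : ∀ x, φ x = a x / x := fun x => rfl
  have hcard : Nat.card φ.range * Nat.card {x : Λ // a x = x} = Nat.card Λ := by
    have h1 : Nat.card {x : Λ // a x = x} = Nat.card φ.ker := by
      refine Nat.card_congr (Equiv.subtypeEquivRight fun x => ?_)
      rw [MonoidHom.mem_ker, hφ, div_eq_one]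
    rw [h1, mul_comm, ← Subgroup.index_ker, Subgroup.card_mul_index]
  rw [← hcard]
  refine Nat.mul_le_mul_right _ ?_
  -- `k` is prime to `p`
  have hkp : k.Coprime p := by
    rw [Nat.coprime_comm, Nat.Prime.coprime_iff_not_dvd hp]
    intro h1
    have h2 : a ^ k = 1 := by
      obtain ⟨m, rfl⟩ := h1
      rw [pow_mul, ha, one_pow]
    rw [h2] at hab
    have h3 : a = b⁻¹ * (b * a * b⁻¹) * b := by group
    rw [hab, mul_one, inv_mul_cancel] at h3
    exact ha1 h3
  have hbai : ∀ i : ℕ, b ^ i * a * (b ^ i)⁻¹ = a ^ k ^ i := by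
    intro i
    induction i with
    | zero => simp
    | succ i ih =>
      calc b ^ (i + 1) * a * (b ^ (i + 1))⁻¹ = b * (b ^ i * a * (b ^ i)⁻¹) * b⁻¹ := by rw [pow_succ']; group
        _ = (b * a * b⁻¹) ^ k ^ i := by rw [ih, conj_pow]
        _ = a ^ k ^ (i + 1) := by rw [hab, ← pow_mul, pow_succ']
  have hbaj : ∀ i j : ℕ, b ^ i * a ^ j * (b ^ i)⁻¹ = a ^ (k ^ i * j) := by
    intro i j
    rw [← conj_pow, hbai, ← pow_mul]
  have hWa : ∀ j : ℕ, ∀ x ∈ φ.range, (a ^ j) x ∈ φ.range := by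
    rintro j _ ⟨y, rfl⟩
    refine ⟨(a ^ j) y, ?_⟩
    rw [hφ, hφ, map_div, ← MulAut.mul_apply, ← MulAut.mul_apply, ← pow_succ, ← pow_succ']
  have hWb : ∀ i : ℕ, ∀ x ∈ φ.range, (b ^ i) x ∈ φ.range := by
    rintro i _ ⟨y, rfl⟩
    have h1 : (b ^ i) (φ y) = (a ^ k ^ i) ((b ^ i) y) / (b ^ i) y := by
      rw [hφ, map_div, ← MulAut.mul_apply, ← MulAut.mul_apply, ← hbai]
      congr 2
      group
    rw [h1]
    exact pow_div_mem a φ.range (fun x => ⟨x, rfl⟩) _ _
  have hnorm : ∀ x ∈ φ.range, ∏ i ∈ Finset.range p, (a ^ i) x = 1 := by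
    rintro _ ⟨y, rfl⟩
    have h1 : ∀ i : ℕ, (a ^ i) (φ y) = (a ^ (i + 1)) y / (a ^ i) y := fun i => by
      rw [hφ, map_div, ← MulAut.mul_apply, ← pow_succ]
    rw [Finset.prod_congr rfl fun i _ => h1 i, Finset.prod_range_div (fun i => (a ^ i) y) p, ha, pow_zero,
      MulAut.one_apply, div_self']
  -- a fixed point of `b`
  have hpow : ∀ g ∈ Subgroup.zpowers b, ∃ i : ℕ, i < q ∧ g = b ^ i := by
    intro g hg
    obtain ⟨m, hm⟩ := Subgroup.mem_zpowers_iff.1 hg
    refine ⟨(m % q).toNat, ?_, ?_⟩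
    · have h1 := Int.emod_lt_of_pos m (Int.natCast_pos.2 hq)
      have h2 := Int.emod_nonneg m (Int.natCast_ne_zero.2 hq.ne')
      omega
    · have h2 := Int.emod_nonneg m (Int.natCast_ne_zero.2 hq.ne')
      rw [← zpow_natCast, Int.toNat_of_nonneg h2, ← hm]
      conv_lhs => rw [← Int.emod_add_mul_ediv m q]
      rw [zpow_add, zpow_mul, zpow_natCast, hb, one_zpow, mul_one]
  have hpowa : ∀ u ∈ Subgroup.zpowers a, ∃ j : ℕ, u = a ^ j := by
    intro u hu
    obtain ⟨j, hj⟩ := (mem_powers_iff_mem_zpowers (x := a)).2 hu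
    exact ⟨j, hj.symm⟩
  obtain ⟨x, hxW, hx1, hxb⟩ := exists_fix_in (MonoidHom.id (MulAut Λ)) (Subgroup.zpowers a) (Subgroup.zpowers b)
    (by
      intro g hg u hu
      obtain ⟨i, -, rfl⟩ := hpow g hg
      obtain ⟨j, rfl⟩ := hpowa u hu
      rw [hbaj]
      exact ⟨((k ^ i * j : ℕ) : ℤ), zpow_natCast _ _⟩)
    (by
      intro u hu g hg h
      obtain ⟨i, hi, rfl⟩ := hpow g hg
      obtain ⟨j, rfl⟩ := hpowa u hu
      by_contra hne
      push Not at hne
      obtain ⟨h1, h2⟩ := hne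
      have hi0 : 0 < i := Nat.pos_of_ne_zero fun h3 => h2 (by rw [h3, pow_zero])
      refine hk i hi0 hi ?_
      have h3 : a ^ (k ^ i * j) = a ^ j := by
        rw [← hbaj, h]; group
      rw [pow_eq_pow_iff_modEq, hao] at h3
      have hjp : ¬ p ∣ j := fun h4 => h1 (by
        obtain ⟨m, rfl⟩ := h4
        rw [pow_mul, ha, one_pow])
      have h4 : j * k ^ i ≡ j * 1 [MOD p] := by rw [mul_comm, mul_one]; exact h3
      exact Nat.ModEq.cancel_left_of_coprime ((Nat.Prime.coprime_iff_not_dvd hp).2 hjp) h4)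
    φ.range
    (by
      intro u hu x hx
      obtain ⟨j, rfl⟩ := hpowa u hu
      exact hWa j x hx)
    (by
      intro g hg x hx
      obtain ⟨i, -, rfl⟩ := hpow g hg
      exact hWb i x hx)
    (by
      have h1 : ∃ v, a v ≠ v := by
        by_contra h
        push Not at h
        exact ha1 (MulEquiv.ext h)
      obtain ⟨v, hv⟩ := h1
      have hcop : p.Coprime r := (Nat.coprime_primes hp hr).2 (Ne.symm hrp)
      refine ⟨a, Subgroup.mem_zpowers a, φ v, ⟨v, rfl⟩, ?_, ?_⟩
      · rw [Nat.card_zpowers, hao]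
        exact Nat.Coprime.coprime_dvd_right (orderOf_dvd_of_pow_eq_one (hexp _)) hcop
      · intro h2
        have h3 : ∀ i : ℕ, (a ^ i) (φ v) = φ v := by
          intro i
          induction i with
          | zero => rfl
          | succ i ih => rw [pow_succ, MulAut.mul_apply]; exact (congrArg _ h2).trans ih
        have h4 := hnorm (φ v) ⟨v, rfl⟩
        rw [Finset.prod_congr rfl fun i _ => h3 i, Finset.prod_const, Finset.card_range] at h4
        have h5 : φ v = 1 := by
          have h6 : orderOf (φ v) ∣ 1 := by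
            have := Nat.dvd_gcd (orderOf_dvd_of_pow_eq_one h4) (orderOf_dvd_of_pow_eq_one (hexp (φ v)))
            rwa [hcop] at this
          exact orderOf_eq_one_iff.1 (Nat.dvd_one.1 h6)
        exact hv (div_eq_one.1 h5))
  -- the linear algebra
  have hA : ∀ (i : ℕ) (y : Λ), ((MulEquiv.toAdditive a).toAddMonoidHom : Additive Λ → Additive Λ)^[i] (Additive.ofMul y) =
      Additive.ofMul ((a ^ i) y) := by
    intro i
    induction i with
    | zero => intro y; rfl
    | succ i ih =>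
      intro y
      rw [Function.iterate_succ_apply, pow_succ, MulAut.mul_apply]
      exact ih (a y)
  let _ : Module (ZMod r) (Additive Λ) := AddCommGroup.zmodModule (n := r) fun v => congrArg Additive.ofMul (hexp v.toMul)
  exact pow_le_card_add (q := q) (k := k) hp hrp (MulEquiv.toAdditive a).toAddMonoidHom
    (MulEquiv.toAdditive b).toAddMonoidHom (x := Additive.ofMul x) (fun h => hx1 h)
    (congrArg Additive.ofMul (hxb b (Subgroup.mem_zpowers b)))
    (fun y => by
      have h1 : b (a y.toMul) = (a ^ k) (b y.toMul) := by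
        rw [← hab, MulAut.mul_apply, MulAut.mul_apply, MulAut.inv_apply_self]
      exact (congrArg Additive.ofMul h1).trans (hA k (b y.toMul)).symm)
    (by
      rw [Finset.sum_congr rfl fun i _ => hA i x, ← ofMul_prod]
      exact congrArg Additive.ofMul (hnorm x hxW))
    hkp hk (Subgroup.toAddSubgroup φ.range) (fun i => by
      rw [hA]
      exact hWa i x hxW)

end main

end Cfsg.Agent.H827.S8
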