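import Cfsg.Agent.H320.SD.Codim

/-!
# S4908: two commuting extraspecial groups of order 27 modulo a central element of order three (helper827)

`quad_index`: `y, z` commuting of order dividing three, for `j < 3` and `k = y z ^ j` there are `u₁, v₁, u₂, v₂` which commute with
`z` and `k` and generate modulo `k` an extraspecial group of order `3 ^ 5` with centre `z`: then `|A : C_A(z)| ≥ 2 ^ 18` if `z`
acts nontrivially on the `3'`-group `A`.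
-/

set_option autoImplicit false
set_option linter.unusedSectionVars false

namespace Cfsg.Agent.H827.S8

open Cfsg.Agent.H320.SD

universe u v

structure Quad {X : Type v} [Group X] (z k u₁ v₁ u₂ v₂ : X) : Prop where
  zu₁ : u₁ * z = z * u₁
  zv₁ : v₁ * z = z * v₁
  zu₂ : u₂ * z = z * u₂
  zv₂ : v₂ * z = z * v₂
  ku₁ : u₁ * k = k * u₁
  kv₁ : v₁ * k = k * v₁
  ku₂ : u₂ * k = k * u₂
  kv₂ : v₂ * k = k * v₂
  c₁ : ∃ i : ℕ, u₁ ^ 3 = k ^ i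
  c₂ : ∃ i : ℕ, u₂ ^ 3 = k ^ i
  r₁ : ∃ i : ℕ, v₁ * u₁ = u₁ * (z * v₁) * k ^ i
  r₂ : ∃ i : ℕ, v₂ * u₂ = u₂ * (z * v₂) * k ^ i
  r₃ : ∃ i : ℕ, u₂ * u₁ = u₁ * u₂ * k ^ i
  r₄ : ∃ i : ℕ, v₂ * u₁ = u₁ * v₂ * k ^ i

section Act

variable {X : Type v} [Group X] {A : Type u} [AddCommGroup A] [DistribMulAction X A]

/-- the action of `C` on an invariant subgroup -/
@[reducible] def dact (M : AddSubgroup A) (C : Subgroup X) (hM : ∀ g ∈ C, ∀ x ∈ M, g • x ∈ M) : DistribMulAction C M where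
  smul g x := ⟨(g : X) • (x : A), hM g g.2 x x.2⟩
  one_smul x := Subtype.ext (one_smul _ _)
  mul_smul g h x := Subtype.ext (mul_smul _ _ _)
  smul_zero g := Subtype.ext (smul_zero _)
  smul_add g x y := Subtype.ext (smul_add _ _ _)

/-- the same as a homomorphism to the group of units of the ring of endomorphisms -/
def act (M : AddSubgroup A) (C : Subgroup X) (hM : ∀ g ∈ C, ∀ x ∈ M, g • x ∈ M) : C →* (AddMonoid.End M)ˣ :=
  letI := dact M C hM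
  (DistribMulAction.toAddMonoidEnd C M).toHomUnits

theorem coe_act (M : AddSubgroup A) (C : Subgroup X) (hM : ∀ g ∈ C, ∀ x ∈ M, g • x ∈ M) (g : C) (x : M) :
    ((act M C hM g • x : M) : A) = (g : X) • (x : A) := rfl

/-- the main estimate inside the fixed points of `k` -/
theorem quad_card [Finite A] (h3 : ∀ x : A, x + x + x = 0 → x = 0) {z k u₁ v₁ u₂ v₂ : X} (hz3 : z ^ 3 = 1)
    (hkz : k * z = z * k) (hQ : Quad z k u₁ v₁ u₂ v₂) (hM : cm A z ⊓ fx A k ≠ ⊥) :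
    2 ^ 18 ≤ Nat.card (cm A z ⊓ fx A k : AddSubgroup A) := by
  set M : AddSubgroup A := cm A z ⊓ fx A k with hMdef
  let C : Subgroup X := Subgroup.centralizer {z, k}
  have hC : ∀ g : X, g ∈ C ↔ z * g = g * z ∧ k * g = g * k := by
    intro g
    rw [Subgroup.mem_centralizer_iff]
    simp
  have hz3' : z * z * z = 1 := by rw [← hz3, pow_succ, pow_two]
  have hMC : ∀ g ∈ C, ∀ x ∈ M, g • x ∈ M := by
    intro g hg x hx
    obtain ⟨h1, h2⟩ := (hC g).1 hg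
    refine ⟨smul_cm h1.symm hx.1, ?_⟩
    show k • g • x = g • x
    rw [← mul_smul, h2, mul_smul, mem_fx.1 hx.2]
  let f := act M C hMC
  have mz : z ∈ C := (hC z).2 ⟨rfl, hkz⟩
  have mk : k ∈ C := (hC k).2 ⟨hkz.symm, rfl⟩
  have mu₁ : u₁ ∈ C := (hC _).2 ⟨hQ.zu₁.symm, hQ.ku₁.symm⟩
  have mv₁ : v₁ ∈ C := (hC _).2 ⟨hQ.zv₁.symm, hQ.kv₁.symm⟩
  have mu₂ : u₂ ∈ C := (hC _).2 ⟨hQ.zu₂.symm, hQ.ku₂.symm⟩
  have mv₂ : v₂ ∈ C := (hC _).2 ⟨hQ.zv₂.symm, hQ.kv₂.symm⟩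
  have fk : f ⟨k, mk⟩ = 1 := by
    apply Units.ext
    apply AddMonoidHom.ext
    intro x
    exact Subtype.ext x.2.2
  have fki : ∀ i : ℕ, f (⟨k, mk⟩ ^ i) = 1 := fun i => by rw [map_pow, fk, one_pow]
  have z3 : f ⟨z, mz⟩ * f ⟨z, mz⟩ * f ⟨z, mz⟩ = 1 := by
    rw [← map_mul, ← map_mul, ← map_one f]
    congr 1
    exact Subtype.ext hz3'
  have comm : ∀ (g h : X) (hg : g ∈ C) (hh : h ∈ C), g * h = h * g → f ⟨g, hg⟩ * f ⟨h, hh⟩ = f ⟨h, hh⟩ * f ⟨g, hg⟩ := by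
    intro g h hg hh e
    rw [← map_mul, ← map_mul]
    congr 1
    exact Subtype.ext e
  have comm' : ∀ (g h : X) (hg : g ∈ C) (hh : h ∈ C), (∃ i : ℕ, g * h = h * g * k ^ i) →
      f ⟨g, hg⟩ * f ⟨h, hh⟩ = f ⟨h, hh⟩ * f ⟨g, hg⟩ := by
    rintro g h hg hh ⟨i, e⟩
    have e' : (⟨g, hg⟩ : C) * ⟨h, hh⟩ = ⟨h, hh⟩ * ⟨g, hg⟩ * ⟨k, mk⟩ ^ i := Subtype.ext e
    rw [← map_mul, e', map_mul, map_mul, fki, mul_one]
  have cube : ∀ (g : X) (hg : g ∈ C), (∃ i : ℕ, g ^ 3 = k ^ i) → f ⟨g, hg⟩ * f ⟨g, hg⟩ * f ⟨g, hg⟩ = 1 := by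
    rintro g hg ⟨i, e⟩
    have e' : (⟨g, hg⟩ : C) * ⟨g, hg⟩ * ⟨g, hg⟩ = ⟨k, mk⟩ ^ i := by
      apply Subtype.ext
      show g * g * g = k ^ i
      rw [← e, pow_succ, pow_two]
    rw [← map_mul, ← map_mul, e', fki]
  have rel : ∀ (g h : X) (hg : g ∈ C) (hh : h ∈ C), (∃ i : ℕ, h * g = g * (z * h) * k ^ i) →
      f ⟨h, hh⟩ * f ⟨g, hg⟩ = f ⟨g, hg⟩ * (f ⟨z, mz⟩ * f ⟨h, hh⟩) := by
    rintro g h hg hh ⟨i, e⟩
    have e' : (⟨h, hh⟩ : C) * ⟨g, hg⟩ = ⟨g, hg⟩ * (⟨z, mz⟩ * ⟨h, hh⟩) * ⟨k, mk⟩ ^ i := Subtype.ext e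
    rw [← map_mul, e', map_mul, map_mul, map_mul, fki, mul_one]
  have h3' : ∀ x : M, x + x + x = 0 → x = 0 := by
    intro x hx
    exact Subtype.ext (h3 _ (congrArg Subtype.val hx))
  have hzM : ∀ x : M, x + f ⟨z, mz⟩ • x + f ⟨z, mz⟩ • f ⟨z, mz⟩ • x = 0 := by
    intro x
    exact Subtype.ext (cm3 hz3' x.2.1)
  have htop : (⊤ : AddSubgroup M) ≠ ⊥ := by
    intro h
    apply hM
    rw [AddSubgroup.eq_bot_iff_forall]
    intro x hx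
    have : (⟨x, hx⟩ : M) ∈ (⊥ : AddSubgroup M) := h ▸ AddSubgroup.mem_top _
    exact congrArg Subtype.val (AddSubgroup.mem_bot.1 this)
  -- first step
  obtain ⟨a1, a2⟩ := step3 (u := f ⟨u₁, mu₁⟩) (v := f ⟨v₁, mv₁⟩) (z := f ⟨z, mz⟩) (⊤ : AddSubgroup M)
    (fun x _ => hzM x) (fun x _ => h3' x) (fun x _ => AddSubgroup.mem_top _) (fun x _ => AddSubgroup.mem_top _)
    (cube _ _ hQ.c₁) z3 (comm _ _ _ _ hQ.zu₁) (comm _ _ _ _ hQ.zv₁) (rel _ _ _ _ hQ.r₁) htop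
  -- second step
  have pres : ∀ (g : X) (hg : g ∈ C), (∃ i : ℕ, g * u₁ = u₁ * g * k ^ i) →
      ∀ x ∈ (⊤ ⊓ fx M (f ⟨u₁, mu₁⟩) : AddSubgroup M), f ⟨g, hg⟩ • x ∈ (⊤ ⊓ fx M (f ⟨u₁, mu₁⟩) : AddSubgroup M) := by
    intro g hg e x hx
    refine ⟨AddSubgroup.mem_top _, ?_⟩
    show f ⟨u₁, mu₁⟩ • f ⟨g, hg⟩ • x = f ⟨g, hg⟩ • x
    rw [← mul_smul, ← comm' g u₁ hg mu₁ e, mul_smul, mem_fx.1 hx.2]
  obtain ⟨b1, b2⟩ := step3 (u := f ⟨u₂, mu₂⟩) (v := f ⟨v₂, mv₂⟩) (z := f ⟨z, mz⟩)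
    (⊤ ⊓ fx M (f ⟨u₁, mu₁⟩) : AddSubgroup M)
    (fun x _ => hzM x) (fun x _ => h3' x) (pres _ _ hQ.r₃) (pres _ _ hQ.r₄)
    (cube _ _ hQ.c₂) z3 (comm _ _ _ _ hQ.zu₂) (comm _ _ _ _ hQ.zv₂) (rel _ _ _ _ hQ.r₂) a1
  -- last step
  have hzN : ∀ x ∈ (⊤ ⊓ fx M (f ⟨u₁, mu₁⟩) ⊓ fx M (f ⟨u₂, mu₂⟩) : AddSubgroup M),
      f ⟨z, mz⟩ • x ∈ (⊤ ⊓ fx M (f ⟨u₁, mu₁⟩) ⊓ fx M (f ⟨u₂, mu₂⟩) : AddSubgroup M) := by
    intro x hx
    refine ⟨⟨AddSubgroup.mem_top _, ?_⟩, ?_⟩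
    · show f ⟨u₁, mu₁⟩ • f ⟨z, mz⟩ • x = f ⟨z, mz⟩ • x
      rw [← mul_smul, comm _ _ mu₁ mz hQ.zu₁, mul_smul, mem_fx.1 hx.1.2]
    · show f ⟨u₂, mu₂⟩ • f ⟨z, mz⟩ • x = f ⟨z, mz⟩ • x
      rw [← mul_smul, comm _ _ mu₂ mz hQ.zu₂, mul_smul, mem_fx.1 hx.2]
  have c1 := four_le (z := f ⟨z, mz⟩) (⊤ ⊓ fx M (f ⟨u₁, mu₁⟩) ⊓ fx M (f ⟨u₂, mu₂⟩) : AddSubgroup M)
    (fun x _ => hzM x) (fun x _ => h3' x) hzN z3 b1
  have e : Nat.card (⊤ : AddSubgroup M) = Nat.card M := Nat.card_congr AddSubgroup.topEquiv.toEquiv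
  rw [e] at a2
  have d1 : 4 ^ 3 ≤ Nat.card (⊤ ⊓ fx M (f ⟨u₁, mu₁⟩) : AddSubgroup M) := (Nat.pow_le_pow_left c1 3).trans b2
  calc 2 ^ 18 = (4 ^ 3) ^ 3 := by norm_num
    _ ≤ _ := Nat.pow_le_pow_left d1 3
    _ ≤ _ := a2

end Act

/-- **The estimate of helper795.** -/
theorem quad_index {X : Type v} [Group X] {A : Type u} [AddCommGroup A] [Finite A] [DistribMulAction X A]
    (h3 : ∀ x : A, x + x + x = 0 → x = 0) {z y : X} (hz3 : z ^ 3 = 1) (hy3 : y ^ 3 = 1) (hzy : y * z = z * y)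
    (hz : ∃ x : A, z • x ≠ x) (hQ : ∀ j : ℕ, j < 3 → ∃ u₁ v₁ u₂ v₂ : X, Quad z (y * z ^ j) u₁ v₁ u₂ v₂) :
    2 ^ 18 ≤ (fx A z).index := by
  have hc : Commute y z := hzy
  have hz3' : z * z * z = 1 := by rw [← hz3, pow_succ, pow_two]
  have hy3' : y * y * y = 1 := by rw [← hy3, pow_succ, pow_two]
  have kz : ∀ j : ℕ, (y * z ^ j) * z = z * (y * z ^ j) := fun j => (hc.mul_left (Commute.pow_self z j)).eq
  rw [index_fx]
  by_contra hlt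
  have hbot : ∀ j : ℕ, j < 3 → cm A z ⊓ fx A (y * z ^ j) = ⊥ := by
    intro j hj
    by_contra hne
    obtain ⟨u₁, v₁, u₂, v₂, h⟩ := hQ j hj
    have h1 := quad_card h3 hz3 (kz j) h hne
    exact hlt (h1.trans (Nat.card_le_card_of_injective _ (AddSubgroup.inclusion_injective inf_le_left)))
  obtain ⟨x, hx⟩ := hz
  -- an element of the commutator
  have hw : x - z • x ∈ cm A z := mem_cm.2 ⟨x, rfl⟩
  have hw0 : x - z • x ≠ 0 := fun h => hx (sub_eq_zero.1 h).symm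
  set w := x - z • x with hwdef
  have ezw : w + z • w + z • z • w = 0 := cm3 hz3' hw
  have ez3 : ∀ a : A, z • z • z • a = a := fun a => by rw [← mul_smul, ← mul_smul, hz3', one_smul]
  have cyz : ∀ a : A, z • y • a = y • z • a := fun a => by rw [← mul_smul, ← hzy, mul_smul]
  have ek : ∀ j : ℕ, j < 3 → w + (y * z ^ j) • w + (y * z ^ j) • (y * z ^ j) • w = 0 := by
    intro j hj
    have hk3 : (y * z ^ j) * (y * z ^ j) * (y * z ^ j) = 1 := by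
      have h1 : (y * z ^ j) ^ 3 = 1 := by
        rw [(hc.pow_right j).mul_pow, hy3, ← pow_mul, mul_comm j 3, pow_mul, hz3, one_pow, one_mul]
      rw [← h1, pow_succ, pow_two]
    have h1 : w + (y * z ^ j) • w + (y * z ^ j) • (y * z ^ j) • w ∈ cm A z ⊓ fx A (y * z ^ j) := by
      refine ⟨add_mem (add_mem hw (smul_cm (kz j) hw)) (smul_cm (kz j) (smul_cm (kz j) hw)), ?_⟩
      show (y * z ^ j) • (w + (y * z ^ j) • w + (y * z ^ j) • (y * z ^ j) • w) = _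
      rw [smul_add, smul_add, ← mul_smul (y * z ^ j) (y * z ^ j) ((y * z ^ j) • w), ← mul_smul ((y * z ^ j) * (y * z ^ j)), hk3,
        one_smul]
      abel
    rw [hbot j hj] at h1
    exact AddSubgroup.mem_bot.1 h1
  have k0 := ek 0 (by norm_num)
  have k1 := ek 1 (by norm_num)
  have k2 := ek 2 (by norm_num)
  have s1 : y • w + y • z • w + y • z • z • w = 0 := by
    rw [← smul_add, ← smul_add, ezw, smul_zero]
  have s2 : y • y • w + y • y • z • w + y • y • z • z • w = 0 := by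
    rw [← smul_add, ← smul_add, ← smul_add, ← smul_add, ezw, smul_zero, smul_zero]
  have t0 : w + y • w + y • y • w = 0 := by
    simpa only [pow_zero, mul_one] using k0
  have t1 : w + y • z • w + y • y • z • z • w = 0 := by
    have h := k1
    rw [pow_one] at h
    simpa only [mul_smul, cyz] using h
  have t2 : w + y • z • z • w + y • y • z • w = 0 := by
    have h := k2
    rw [pow_two] at h
    simpa only [mul_smul, cyz, ez3] using h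
  apply hw0
  apply h3
  have e : w + w + w = (w + y • w + y • y • w) + (w + y • z • w + y • y • z • z • w) + (w + y • z • z • w + y • y • z • w) -
      (y • w + y • z • w + y • z • z • w) - (y • y • w + y • y • z • w + y • y • z • z • w) := by abel
  rw [e, t0, t1, t2, s1, s2]
  simp

end Cfsg.Agent.H827.S8
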