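import Cfsg.Agent.H827.S8.Kernel
import Cfsg.Agent.H704.S8.Defs

/-!
# S4908: `Chief` from Frobenius groups `K : Q` with arbitrary kernels (helper827)

`chief_of`: `X` simple; for every prime `r` there is a subgroup `Q` with `Side c D X Q` (every proper `T` containing `Q` has
`c |T| k(T) ≤ |X|` or `|X : T|` divides no degree) such that `Q` is an `r`-group or `Q` is the complement of a Frobenius group
`K : Q` with `K ≠ 1` of order prime to `r`.
-/

set_option autoImplicit false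

namespace Cfsg.Agent.H827.S8

open Cfsg.Agent.H704.S8

universe u v

/-- no proper subgroup containing `Q` satisfies the two conditions of `Chief` -/
def Side (c : ℕ) (D : Set ℕ) (X : Type v) [Group X] (Q : Subgroup X) : Prop :=
  ∀ T : Subgroup X, T ≠ ⊤ → Q ≤ T → (∃ d ∈ D, T.index ∣ d) →
    c * (Nat.card T * Nat.card (ConjClasses T)) ≤ Nat.card X

/-- `K : Q` is a Frobenius group (or `Q = 1`) -/
def Frob {X : Type v} [Group X] (K Q : Subgroup X) : Prop :=
  (∀ g ∈ Q, ∀ u ∈ K, g * u * g⁻¹ ∈ K) ∧ ∀ u ∈ K, ∀ g ∈ Q, g * u = u * g → u = 1 ∨ g = 1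

theorem chief_of {X : Type v} [Group X] [Finite X] [IsSimpleGroup X] {c : ℕ} {D : Set ℕ}
    (h : ∀ r : ℕ, r.Prime → ∃ Q : Subgroup X, Side c D X Q ∧
      ((∃ K : Subgroup X, K ≠ ⊥ ∧ ¬ r ∣ Nat.card K ∧ Frob K Q) ∨ IsPGroup r Q)) : Chief.{u} c D X := by
  intro Λ _ _ ρ hT
  by_contra hx
  push Not at hx
  obtain ⟨x₀, hx₀⟩ := hx
  -- a prime divisor of the order
  have hc : Nat.card Λ ≠ 1 := by
    intro h1
    have := (Nat.card_eq_one_iff_unique.1 h1).1
    exact hx₀ (Subsingleton.elim _ _)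
  obtain ⟨r, hr, hrL⟩ := Nat.exists_prime_and_dvd hc
  have : Fact r.Prime := ⟨hr⟩
  obtain ⟨z, hz⟩ := exists_prime_orderOf_dvd_card' r hrL
  have hz1 : z ≠ 1 := by
    rintro rfl
    rw [orderOf_one] at hz
    exact hr.one_lt.ne hz
  -- it is enough to find a nontrivial element fixed by a subgroup `Q` with `Side`
  have key : ∀ Q : Subgroup X, Side c D X Q → (∃ x : Λ, x ≠ 1 ∧ ∀ g ∈ Q, ρ g x = x) → False := by
    rintro Q hQ ⟨x, hx1, hx⟩
    obtain ⟨T, hT1, hT2, hT3, hT4⟩ := hT x hx1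
    exact absurd (hQ T hT2 (fun g hg => (hT1 g).2 (hx g hg)) hT4) (not_le.2 hT3)
  obtain ⟨Q, hQ, ⟨K, hK1, hKr, hK⟩ | hP⟩ := h r hr
  · refine key Q hQ (exists_fix ρ K Q hK.1 hK.2 ?_)
    by_contra hno
    push Not at hno
    -- the kernel of the action on the elements of order dividing `r`
    let N : Subgroup X :=
      { carrier := {g | ∀ x : Λ, x ^ r = 1 → ρ g x = x}
        one_mem' := fun x _ => by rw [map_one]; rfl
        mul_mem' := fun {a b} ha hb x hx => by rw [map_mul, MulAut.mul_apply, hb x hx, ha x hx]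
        inv_mem' := fun {a} ha x hx => by
          have h1 : ρ a⁻¹ (ρ a x) = x := by rw [← MulAut.mul_apply, ← map_mul, inv_mul_cancel, map_one]; rfl
          rwa [ha x hx] at h1 }
    have hN : N.Normal := ⟨fun n hn g x hx => by
      have h1 : (ρ g⁻¹ x) ^ r = 1 := by rw [← map_pow, hx, map_one]
      rw [map_mul, map_mul, MulAut.mul_apply, MulAut.mul_apply, hn _ h1, ← MulAut.mul_apply, ← map_mul,
        mul_inv_cancel, map_one]
      rfl⟩
    obtain ⟨T, hT1, hT2, -⟩ := hT z hz1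
    have hNT : N ≤ T := fun g hg => (hT1 g).2 (hg z (by rw [← hz]; exact pow_orderOf_eq_one z))
    have hNb : N = ⊥ := by
      rcases hN.eq_bot_or_eq_top with h1 | h1
      · exact h1
      · exact absurd (top_le_iff.1 (h1 ▸ hNT)) hT2
    refine hK1 ((Subgroup.eq_bot_iff_forall K).2 fun u hu => ?_)
    have h2 : u ∈ N := fun x hx => by
      refine hno u hu x ?_
      have h3 : orderOf x ∣ r := orderOf_dvd_of_pow_eq_one hx
      exact Nat.Coprime.coprime_dvd_right h3 ((Nat.coprime_comm.1 ((Nat.Prime.coprime_iff_not_dvd hr).2 hKr)))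
    rwa [hNb, Subgroup.mem_bot] at h2
  · exact key Q hQ (exists_fix_pgroup ρ Q hP hrL)

/-- one Frobenius group `K : Q` with kernel an `s`-group, and a subgroup `P` for `r = s` -/
theorem chief_of_two {X : Type v} [Group X] [Finite X] [IsSimpleGroup X] {c : ℕ} {D : Set ℕ} {s : ℕ} {K Q P : Subgroup X}
    (hs : s.Prime) (hK : IsPGroup s K) (hK1 : K ≠ ⊥) (hF : Frob K Q) (hQ : Side c D X Q) (hP : IsPGroup s P)
    (hPS : Side c D X P) : Chief.{u} c D X := by
  refine chief_of fun r hr => ?_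
  by_cases h1 : r = s
  · exact ⟨P, hPS, Or.inr (h1 ▸ hP)⟩
  · refine ⟨Q, hQ, Or.inl ⟨K, hK1, ?_, hF⟩⟩
    have : Fact s.Prime := ⟨hs⟩
    obtain ⟨n, hn⟩ := IsPGroup.iff_card.1 hK
    rw [hn]
    exact fun h2 => h1 ((Nat.prime_dvd_prime_iff_eq hr hs).1 (hr.dvd_of_dvd_pow h2))

/-- two Frobenius groups with kernels of coprime orders and the same complement -/
theorem chief_of_kernels {X : Type v} [Group X] [Finite X] [IsSimpleGroup X] {c : ℕ} {D : Set ℕ}
    {K₁ K₂ Q₁ Q₂ : Subgroup X} (h1 : K₁ ≠ ⊥) (h2 : K₂ ≠ ⊥) (hc : (Nat.card K₁).Coprime (Nat.card K₂)) (hF₁ : Frob K₁ Q₁)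
    (hF₂ : Frob K₂ Q₂) (hQ₁ : Side c D X Q₁) (hQ₂ : Side c D X Q₂) : Chief.{u} c D X := by
  refine chief_of fun r hr => ?_
  by_cases h3 : r ∣ Nat.card K₁
  · refine ⟨Q₂, hQ₂, Or.inl ⟨K₂, h2, fun h4 => ?_, hF₂⟩⟩
    exact Nat.not_coprime_of_dvd_of_dvd hr.one_lt h3 h4 hc
  · exact ⟨Q₁, hQ₁, Or.inl ⟨K₁, h1, h3, hF₁⟩⟩

end Cfsg.Agent.H827.S8
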